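import Cfsg.Agent.H344.S8.HSDeg
import Cfsg.Agent.H206.S8.C3Tools
import Cfsg.Agent.H678.S8.HSNo
import Cfsg.Agent.H306.RIM.Tool
import Cfsg.Agent.H904.HSIso
import Cfsg.Agent.H529.S8.Cov

/-!
# S4908, `HS`: the double cover (helper454)

* `deg_Q`, `deg_aut_Q` : the list of helper344 without 126 and 1050;
* `cover_at` : `N` a perfect central extension of `HS` by a group `V` of order two. For `x ∈ N` of order 11 put
  `t(χ) = χ(x) + χ(x²)`. Over the nontrivial character of `V`: `∑ t² = 22`, `∑ t χ(1) = 0` and `11 ∣ χ(1) + 5 t(χ)`,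
  `2 ∣ χ(1)`. If all `χ(1) 2 ^ i` or `2 χ(1) 2 ^ i` are degrees of `HS` or `HS.2`, this is impossible.
-/

set_option autoImplicit false
set_option maxRecDepth 100000
set_option linter.unusedSectionVars false

namespace Cfsg.Agent.H454.S8

section deg

open Cfsg Cfsg.Agent.Characters Cfsg.Agent.Characters.Core Cfsg.Agent.Characters.Brauer Cfsg.Agent.H447.CTab
open Cfsg.Agent.H344.S8 Cfsg.Agent.H344.S8.HS Cfsg.Agent.HN.HS100 Cfsg.Agent.H424.DegTools
open scoped ComplexConjugate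

universe u v

/-- degrees of the other characters (the proof of helper344, with the multiplicities) -/
theorem degree {k : ℕ} {G : Type u} [Group G] [Finite G] [Fintype G] {T : ATab G k} {N : ℕ} (hN : Nat.card G = N) {m : ℕ}
    (v : Fin m → Fin k → ℤ) (w : Fin 4 → Fin k → ℤ)
    (hv : ∀ i, IsIrrCharacter G (fv T (v i))) (hw : ∀ i, GV T (w i))
    (hww : ∀ i j, ∑ c, (T.sz c : ℤ) * (w i c * w j c) = N * if i = j then ![2, 2, 2, 4] i else 0)
    (c0 : Fin k) (hc0 : T.cl 1 = c0) (hs0 : T.sz c0 = 1)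
    (hcol : ∀ c, (∑ i, 4 * v i c0 * v i c) + (∑ j, ![2, 2, 2, 1] j * w j c0 * w j c) = if c = c0 then 4 * (N : ℤ) else 0)
    (χ : IrrCharacter G) (hχ : ∀ i, fv T (v i) ≠ (χ : G → ℂ)) :
    ∃ a : Fin 4 → ℤ, (∀ j, classInner (fv T (w j)) (χ : G → ℂ) = a j) ∧
      2 * (a 0 ^ 2 + a 1 ^ 2 + a 2 ^ 2) + a 3 ^ 2 ≤ 4 ∧
      4 * (charDegree (χ : G → ℂ) : ℤ) = ∑ j, ![2, 2, 2, 1] j * a j * w j c0 := by
  classical
  have := finite_irr (G := G)
  have := Fintype.ofFinite (IrrCharacter G)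
  let μ : Fin 4 → IrrCharacter G → ℤ := fun j => mu (hw j)
  have hμ : ∀ i j, ∑ η, μ i η * μ j η = if i = j then ![2, 2, 2, 4] i else 0 := by
    intro i j
    have h1 := inner_sum_mu (hw i) (hw j)
    rw [inner_eq (T := T) hN (hww i j)] at h1
    exact_mod_cast h1.symm
  refine ⟨fun j => μ j χ, fun j => inner_mu (hw j) χ, ?_, ?_⟩
  · -- Bessel
    let d : IrrCharacter G → ℤ := fun η => if η = χ then 1 else 0
    have hd1 : ∑ η, d η * d η = 1 := by
      simp only [d, mul_ite, mul_one, mul_zero, Finset.sum_ite_eq', Finset.mem_univ, if_true]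
    have hdm : ∀ j, ∑ η, d η * μ j η = μ j χ := by
      intro j
      simp only [d, ite_mul, one_mul, zero_mul, Finset.sum_ite_eq', Finset.mem_univ, if_true]
    have h0 : 0 ≤ ∑ η, (4 * d η - 2 * μ 0 χ * μ 0 η - 2 * μ 1 χ * μ 1 η - 2 * μ 2 χ * μ 2 η - μ 3 χ * μ 3 η) ^ 2 :=
      Finset.sum_nonneg fun η _ => sq_nonneg _
    have h1 : ∑ η, (4 * d η - 2 * μ 0 χ * μ 0 η - 2 * μ 1 χ * μ 1 η - 2 * μ 2 χ * μ 2 η - μ 3 χ * μ 3 η) ^ 2 =
        16 * (∑ η, d η * d η) + 4 * μ 0 χ ^ 2 * (∑ η, μ 0 η * μ 0 η) + 4 * μ 1 χ ^ 2 * (∑ η, μ 1 η * μ 1 η) +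
        4 * μ 2 χ ^ 2 * (∑ η, μ 2 η * μ 2 η) + μ 3 χ ^ 2 * (∑ η, μ 3 η * μ 3 η) -
        16 * μ 0 χ * (∑ η, d η * μ 0 η) - 16 * μ 1 χ * (∑ η, d η * μ 1 η) - 16 * μ 2 χ * (∑ η, d η * μ 2 η) -
        8 * μ 3 χ * (∑ η, d η * μ 3 η) + 8 * μ 0 χ * μ 1 χ * (∑ η, μ 0 η * μ 1 η) +
        8 * μ 0 χ * μ 2 χ * (∑ η, μ 0 η * μ 2 η) + 4 * μ 0 χ * μ 3 χ * (∑ η, μ 0 η * μ 3 η) +
        8 * μ 1 χ * μ 2 χ * (∑ η, μ 1 η * μ 2 η) + 4 * μ 1 χ * μ 3 χ * (∑ η, μ 1 η * μ 3 η) +
        4 * μ 2 χ * μ 3 χ * (∑ η, μ 2 η * μ 3 η) := by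
      simp only [Finset.mul_sum, ← Finset.sum_add_distrib, ← Finset.sum_sub_distrib]
      refine Finset.sum_congr rfl fun η _ => ?_
      ring
    rw [h1, hd1, hdm, hdm, hdm, hdm, hμ, hμ, hμ, hμ, hμ, hμ, hμ, hμ, hμ, hμ] at h0
    simp at h0
    show 2 * (μ 0 χ ^ 2 + μ 1 χ ^ 2 + μ 2 χ ^ 2) + μ 3 χ ^ 2 ≤ 4
    nlinarith [h0]
  · -- the degree
    have hA : ∀ i, ∑ g : G, (χ : G → ℂ) g * ((v i (T.cl g) : ℤ) : ℂ) = 0 := by
      intro i
      have h1 : classInner (χ : G → ℂ) (fv T (v i)) = 0 := by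
        exact classInner_irr_ne χ.2 (hv i) fun h2 => hχ i h2.symm
      rw [classInner_def] at h1
      have h2 : (Nat.card G : ℂ)⁻¹ ≠ 0 := inv_ne_zero card_ne_zero_complex
      have h3 := (mul_eq_zero.1 h1).resolve_left h2
      rw [← h3]
      refine Finset.sum_congr rfl fun g _ => ?_
      rw [fv, show conj ((v i (T.cl g) : ℤ) : ℂ) = ((v i (T.cl g) : ℤ) : ℂ) from map_intCast _ _]
    have hB : ∀ j, ∑ g : G, (χ : G → ℂ) g * ((w j (T.cl g) : ℤ) : ℂ) = (Nat.card G : ℂ) * ((μ j χ : ℤ) : ℂ) := by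
      intro j
      have h1 := inner_mu (hw j) χ
      have h2 : classInner (χ : G → ℂ) (fv T (w j)) = ((μ j χ : ℤ) : ℂ) := by
        have h3 : classInner (χ : G → ℂ) (fv T (w j)) = conj (classInner (fv T (w j)) (χ : G → ℂ)) := by
          rw [classInner_def, classInner_def, map_mul, map_inv₀, Complex.conj_natCast, map_sum]
          congr 1
          refine Finset.sum_congr rfl fun g _ => ?_
          rw [map_mul, Complex.conj_conj]
          ring
        rw [h3, h1, map_intCast]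
      rw [classInner_def] at h2
      have h3 : (Nat.card G : ℂ) ≠ 0 := card_ne_zero_complex
      rw [← h2, mul_inv_cancel_left₀ h3]
      refine Finset.sum_congr rfl fun g _ => ?_
      rw [fv, show conj ((w j (T.cl g) : ℤ) : ℂ) = ((w j (T.cl g) : ℤ) : ℂ) from map_intCast _ _]
    have hfib : ∀ g : G, T.cl g = c0 → g = 1 := by
      intro g hg
      have h1 := T.hsz c0
      rw [hs0, Nat.card_eq_one_iff_unique] at h1
      have h2 : (⟨g, hg⟩ : {g : G // T.cl g = c0}) = ⟨1, hc0⟩ := h1.1.elim _ _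
      exact congrArg Subtype.val h2
    -- the column sum
    have hC : ∑ g : G, (χ : G → ℂ) g * (((∑ i, 4 * v i c0 * v i (T.cl g)) +
        (∑ j, ![2, 2, 2, 1] j * w j c0 * w j (T.cl g)) : ℤ) : ℂ) = (χ : G → ℂ) 1 * (4 * N : ℤ) := by
      rw [Finset.sum_eq_single 1]
      · rw [hcol, hc0, if_pos rfl]
      · intro g _ hg
        rw [hcol, if_neg (fun h => hg (hfib g h))]
        simp
      · intro h
        exact absurd (Finset.mem_univ _) h
    have hD : ∑ g : G, (χ : G → ℂ) g * (((∑ i, 4 * v i c0 * v i (T.cl g)) +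
        (∑ j, ![2, 2, 2, 1] j * w j c0 * w j (T.cl g)) : ℤ) : ℂ) =
        (∑ i, ((4 * v i c0 : ℤ) : ℂ) * ∑ g : G, (χ : G → ℂ) g * ((v i (T.cl g) : ℤ) : ℂ)) +
        ∑ j, ((![2, 2, 2, 1] j * w j c0 : ℤ) : ℂ) * ∑ g : G, (χ : G → ℂ) g * ((w j (T.cl g) : ℤ) : ℂ) := by
      simp only [Finset.mul_sum]
      rw [Finset.sum_comm, Finset.sum_comm (s := (Finset.univ : Finset (Fin 4))), ← Finset.sum_add_distrib]
      refine Finset.sum_congr rfl fun g _ => ?_
      rw [Int.cast_add, Int.cast_sum, Int.cast_sum, mul_add, Finset.mul_sum, Finset.mul_sum]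
      congr 1
      · refine Finset.sum_congr rfl fun i _ => ?_
        rw [Int.cast_mul]
        ring
      · refine Finset.sum_congr rfl fun i _ => ?_
        rw [Int.cast_mul]
        ring
    rw [hC] at hD
    have hE : (χ : G → ℂ) 1 * (4 * N : ℤ) =
        ∑ j, ((![2, 2, 2, 1] j * w j c0 : ℤ) : ℂ) * ((Nat.card G : ℂ) * ((μ j χ : ℤ) : ℂ)) := by
      rw [hD]
      simp only [hA, hB, mul_zero, Finset.sum_const_zero, zero_add]
    have hχ1 := Cfsg.Agent.Blocks.Basic.irr_one_eq_charDegree χ.2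
    rw [hχ1, hN] at hE
    have hN0 : (N : ℤ) ≠ 0 := by
      rw [← hN]
      exact_mod_cast (Nat.card_pos (α := G)).ne'
    have hF : (charDegree (χ : G → ℂ) : ℤ) * (4 * N) = ∑ j, (![2, 2, 2, 1] j * w j c0) * ((N : ℤ) * μ j χ) := by
      exact_mod_cast hE
    apply mul_right_cancel₀ hN0
    rw [Finset.sum_mul]
    calc 4 * (charDegree (χ : G → ℂ) : ℤ) * N = (charDegree (χ : G → ℂ) : ℤ) * (4 * N) := by ring
      _ = _ := hF
      _ = _ := Finset.sum_congr rfl fun j _ => by ring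


/-- a character with two multiplicities one -/
theorem no_half [Fintype Q] {w : Fin 21 → ℤ} (hw : GV T w) (hn : ∑ c, (T.sz c : ℤ) * (w c * w c) = (44352000 : ℕ) * 4)
    {χ : IrrCharacter Q} (h2 : classInner (fv T w) (χ : Q → ℂ) = 2) (h17 : w 17 = -1) : False := by
  classical
  have := finite_irr (G := Q)
  have := Fintype.ofFinite (IrrCharacter Q)
  have h3 : mu hw χ = 2 := by
    have h4 := inner_mu hw χ
    rw [h2] at h4
    exact_mod_cast h4.symm
  have h4 : ∑ η, mu hw η * mu hw η = 4 := by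
    have h1 := inner_sum_mu hw hw
    rw [inner_eq (T := T) card_Q hn] at h1
    exact_mod_cast h1.symm
  have h5 : ∀ η, η ≠ χ → mu hw η = 0 := by
    intro η hη
    have h6 : mu hw η * mu hw η + mu hw χ * mu hw χ ≤ ∑ η, mu hw η * mu hw η := by
      rw [← Finset.sum_pair (f := fun η => mu hw η * mu hw η) hη]
      exact Finset.sum_le_sum_of_subset_of_nonneg (Finset.subset_univ _) fun _ _ _ => mul_self_nonneg _
    rw [h4, h3] at h6
    have h7 : mu hw η * mu hw η = 0 := le_antisymm (by linarith) (mul_self_nonneg _)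
    exact mul_self_eq_zero.1 h7
  obtain ⟨y, hy⟩ : ∃ y : Q, T.cl y = 17 := by
    have h1 := T.hsz 17
    have h6 : T.sz 17 ≠ 0 := by decide +kernel
    rw [← h1] at h6
    obtain ⟨⟨y, hy⟩⟩ := (Nat.card_ne_zero.1 h6).1
    exact ⟨y, hy⟩
  have h6 := apply_mu hw y
  rw [Finset.sum_eq_single χ (fun η _ hη => by rw [h5 η hη, Int.cast_zero, zero_mul])
    (fun h => absurd (Finset.mem_univ _) h), h3] at h6
  have h7 : fv T w y = -1 := by
    show ((w (T.cl y) : ℤ) : ℂ) = -1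
    rw [hy, h17]
    norm_num
  rw [h7] at h6
  obtain ⟨z, hz⟩ := GaloisBasic.exists_int_of_rat (isIrr_isCharacter χ.2) y ⟨-1 / 2, by
    push_cast at h6 ⊢
    linear_combination (-1 / 2) * h6⟩
  rw [hz] at h6
  have h8 : (-1 : ℤ) = 2 * z := by exact_mod_cast h6
  omega

theorem no_deg (χ : IrrCharacter Q) : charDegree (χ : Q → ℂ) ≠ 126 ∧ charDegree (χ : Q → ℂ) ≠ 1050 := by
  by_contra hcon
  have hd : charDegree (χ : Q → ℂ) = 126 ∨ charDegree (χ : Q → ℂ) = 1050 := by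
    by_contra h
    push Not at h
    exact hcon h
  have hχ : ∀ i, fv T (V i) ≠ (χ : Q → ℂ) := by
    intro i hi
    have h1 := degV i
    rw [hi] at h1
    have h2 : ∀ i : Fin 17, (V i 0).toNat ≠ 126 ∧ (V i 0).toNat ≠ 1050 := by decide +kernel
    rw [h1] at hd
    rcases hd with h | h
    · exact (h2 i).1 h
    · exact (h2 i).2 h
  have := Fintype.ofFinite Q
  obtain ⟨a, h0, h1, h2⟩ := degree card_Q V W irrV gW normW 0 cl_one (by decide +kernel) colV χ hχ
  rw [Fin.sum_univ_four, W0, W0, W0, W0] at h2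
  simp only [Matrix.cons_val_zero, Matrix.cons_val_one, Matrix.cons_val] at h2
  have i0 := h0 0
  have i1 := h0 1
  have i2 := h0 2
  generalize charDegree (χ : Q → ℂ) = d at *
  generalize a 0 = a0 at *
  generalize a 1 = a1 at *
  generalize a 2 = a2 at *
  generalize a 3 = a3 at *
  have b0 : -1 ≤ a0 ∧ a0 ≤ 1 := by constructor <;> nlinarith [sq_nonneg a1, sq_nonneg a2, sq_nonneg a3]
  have b1 : -1 ≤ a1 ∧ a1 ≤ 1 := by constructor <;> nlinarith [sq_nonneg a0, sq_nonneg a2, sq_nonneg a3]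
  have b2 : -1 ≤ a2 ∧ a2 ≤ 1 := by constructor <;> nlinarith [sq_nonneg a1, sq_nonneg a0, sq_nonneg a3]
  have b3 : -2 ≤ a3 ∧ a3 ≤ 2 := by constructor <;> nlinarith [sq_nonneg a1, sq_nonneg a2, sq_nonneg a0]
  have key : ∀ x ∈ Finset.Icc (-1 : ℤ) 1, ∀ y ∈ Finset.Icc (-1 : ℤ) 1, ∀ z ∈ Finset.Icc (-1 : ℤ) 1,
      ∀ t ∈ Finset.Icc (-2 : ℤ) 2, 2 * (x ^ 2 + y ^ 2 + z ^ 2) + t ^ 2 ≤ 4 →
      (2 * x * 1540 + 2 * y * 308 + 2 * z * 1792 + 1 * t * 5040 = 4 * 126 → x = -1 ∧ z = 1) ∧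
      (2 * x * 1540 + 2 * y * 308 + 2 * z * 1792 + 1 * t * 5040 = 4 * 1050 → y = 1 ∧ z = 1) := by decide +kernel
  have h3 := key a0 (Finset.mem_Icc.2 b0) a1 (Finset.mem_Icc.2 b1) a2 (Finset.mem_Icc.2 b2) a3 (Finset.mem_Icc.2 b3) h1
  rw [← h2] at h3
  rcases hd with rfl | rfl
  · obtain ⟨e0, e2⟩ := h3.1 (by norm_num)
    have hw : GV T fun c => W 2 c + (-1) * W 0 c := (gW 2).add ((gW 0).zsmul (-1))
    refine no_half hw (by decide +kernel) (χ := χ) ?_ (by decide +kernel)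
    have h4 : fv T (fun c => W 2 c + (-1) * W 0 c) = fv T (W 2) - fv T (W 0) := by
      funext g
      show (((W 2 (T.cl g) + (-1) * W 0 (T.cl g) : ℤ)) : ℂ) = ((W 2 (T.cl g) : ℤ) : ℂ) - ((W 0 (T.cl g) : ℤ) : ℂ)
      push_cast
      ring
    rw [h4, classInner_sub_left, i0, i2, e0, e2]
    norm_num
  · obtain ⟨e1, e2⟩ := h3.2 (by norm_num)
    have hw : GV T fun c => W 2 c + W 1 c := (gW 2).add (gW 1)
    refine no_half hw (by decide +kernel) (χ := χ) ?_ (by decide +kernel)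
    have h4 : fv T (fun c => W 2 c + W 1 c) = fv T (W 2) + fv T (W 1) := by
      funext g
      show (((W 2 (T.cl g) + W 1 (T.cl g) : ℤ)) : ℂ) = ((W 2 (T.cl g) : ℤ) : ℂ) + ((W 1 (T.cl g) : ℤ) : ℂ)
      push_cast
      ring
    rw [h4, classInner_add_left, i1, i2, e1, e2]
    norm_num

/-- a superset of the degrees of `HS` -/
def LQ : List ℕ := [1, 22, 77, 154, 175, 231, 693, 770, 825, 1056, 1386, 1408, 1750, 1925, 2750, 3200, 616, 896, 924,
  1260, 2520]

/-- a superset of the degrees of `HS` and `HS.2` -/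
def F : List ℕ := LQ ++ [308, 3850, 1232, 1540, 1792, 1848, 5040]

theorem deg_LQ {d : ℕ} (hd : d ∈ charDegrees Q) : d ∈ LQ := by
  have h1 := deg_Q hd
  obtain ⟨χ, rfl⟩ := hd
  obtain ⟨h2, h3⟩ := no_deg χ
  have h4 : ∀ d ∈ 1 :: (LV ++ LX), d ≠ 126 → d ≠ 1050 → d ∈ LQ := by decide +kernel
  exact h4 _ h1 h2 h3

theorem deg_F {d : ℕ} (hd : d ∈ charDegrees (MulAut Q)) : d ∈ F := by
  rcases H109.S8.deg_aut center_Q index_Q hd with h | ⟨χ, χ', f, h3, h4, h5, h6⟩
  · exact List.mem_append_left _ (deg_LQ h)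
  · have e1 : charDegree (χ : Q → ℂ) = f := Cfsg.Agent.Blocks.Basic.charDegree_of_eq h4
    have e2 : charDegree (χ' : Q → ℂ) = f := Cfsg.Agent.Blocks.Basic.charDegree_of_eq h5
    have e3 : f ∈ 1925 :: LX := by
      rw [← e1]
      exact pair_Q h3 (e1.trans e2.symm)
    have e4 : f ≠ 126 := by
      rw [← e1]
      exact (no_deg χ).1
    have e5 : f ≠ 1050 := by
      rw [← e1]
      exact (no_deg χ).2
    have h7 : ∀ f ∈ 1925 :: LX, f ≠ 126 → f ≠ 1050 → 2 * f ∈ F := by decide +kernel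
    rw [h6]
    exact h7 f e3 e4 e5

theorem deg_sub {X : Type v} [Group X] [Finite X] (h : Spor.IsoHS X) {D : Set ℕ} (hD : H704.S8.Deg 2 X D) :
    ∀ d ∈ D, d ∈ F := by
  intro d hd
  obtain ⟨e0⟩ := h
  obtain ⟨f⟩ := isoQ
  have e : X ≃* Q := e0.trans f.symm
  rcases hD with rfl | ⟨-, rfl⟩
  · rw [charDegrees_congr e] at hd
    exact List.mem_append_left _ (deg_LQ hd)
  · rw [charDegrees_congr (MulAut.congr e)] at hd
    exact deg_F hd

end deg


section cover

open Cfsg Subgroup Cfsg.Agent.H622.Over Cfsg.Agent.H382.RIM Cfsg.Agent.Characters Cfsg.Agent.Characters.Core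
open scoped ComplexConjugate

universe u v

/-! ### the search -/

/-- `∑ m_p t_p² = a`, `∑ m_p t_p d_p = b` has a solution -/
def reach : List (ℤ × ℤ) → ℕ → ℤ → Bool
  | [], a, b => a == 0 && b == 0
  | p :: l, a, b => (List.range (a / (p.1 * p.1).toNat + 1)).any fun m =>
      reach l (a - m * (p.1 * p.1).toNat) (b - m * (p.1 * p.2))

theorem reach_of {ι : Type*} (t d : ι → ℤ) (L : List (ℤ × ℤ)) (hL : ∀ p ∈ L, p.1 ≠ 0) :
    ∀ (S : Finset ι), (∀ s ∈ S, t s = 0 ∨ (t s, d s) ∈ L) → ∀ (a : ℕ) (b : ℤ), ∑ s ∈ S, t s * t s = a →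
      ∑ s ∈ S, t s * d s = b → reach L a b = true := by
  classical
  induction L with
  | nil =>
    intro S hS a b ha hb
    have h0 : ∀ s ∈ S, t s = 0 := fun s hs => (hS s hs).resolve_right (by simp)
    rw [Finset.sum_eq_zero (fun s hs => by rw [h0 s hs, mul_zero])] at ha
    rw [Finset.sum_eq_zero (fun s hs => by rw [h0 s hs, zero_mul])] at hb
    have ha' : a = 0 := by exact_mod_cast ha.symm
    simp [reach, ha', ← hb]
  | cons p l ih =>
    intro S hS a b ha hb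
    have hp : p.1 ≠ 0 := hL p (by simp)
    have hpp : 0 < p.1 * p.1 := mul_self_pos.2 hp
    have h1 := ih (fun q hq => hL q (by simp [hq])) (S.filter fun s => (t s, d s) ≠ p) (by
      intro s hs
      rw [Finset.mem_filter] at hs
      rcases hS s hs.1 with h | h
      · exact Or.inl h
      · right
        rcases List.mem_cons.1 h with h | h
        · exact absurd h hs.2
        · exact h)
    set m := (S.filter fun s => (t s, d s) = p).card with hm
    have e1 : ∑ s ∈ S, t s * t s = m * (p.1 * p.1) + ∑ s ∈ S.filter (fun s => (t s, d s) ≠ p), t s * t s := by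
      rw [← Finset.sum_filter_add_sum_filter_not S (fun s => (t s, d s) = p)]
      congr 1
      rw [Finset.sum_congr rfl (g := fun _ => p.1 * p.1) (fun s hs => by
        have := (Finset.mem_filter.1 hs).2
        rw [← this]), Finset.sum_const, nsmul_eq_mul]
    have e2 : ∑ s ∈ S, t s * d s = m * (p.1 * p.2) + ∑ s ∈ S.filter (fun s => (t s, d s) ≠ p), t s * d s := by
      rw [← Finset.sum_filter_add_sum_filter_not S (fun s => (t s, d s) = p)]
      congr 1
      rw [Finset.sum_congr rfl (g := fun _ => p.1 * p.2) (fun s hs => by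
        have := (Finset.mem_filter.1 hs).2
        rw [← this]), Finset.sum_const, nsmul_eq_mul]
    have hnn : 0 ≤ ∑ s ∈ S.filter (fun s => (t s, d s) ≠ p), t s * t s :=
      Finset.sum_nonneg fun s _ => mul_self_nonneg _
    obtain ⟨k, hk⟩ : ∃ k : ℕ, (k : ℤ) = p.1 * p.1 := ⟨(p.1 * p.1).toNat, Int.toNat_of_nonneg hpp.le⟩
    have hk' : (p.1 * p.1).toNat = k := by rw [← hk]; rfl
    have hk0 : 0 < k := by
      have : (0 : ℤ) < k := by rw [hk]; exact hpp
      exact_mod_cast this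
    rw [e1, ← hk] at ha
    have hle : m * k ≤ a := by
      have : (m * k : ℤ) ≤ a := by linarith
      exact_mod_cast this
    have h2 := h1 (a - m * k) (b - m * (p.1 * p.2)) (by
      rw [Nat.cast_sub hle]
      push_cast
      linarith) (by
      rw [e2] at hb
      linarith)
    rw [reach, List.any_eq_true]
    refine ⟨m, ?_, ?_⟩
    · rw [List.mem_range, hk', Nat.lt_succ_iff]
      exact (Nat.le_div_iff_mul_le hk0).2 hle
    · rw [hk']
      exact h2

/-- the even `d` with `d 2 ^ i ∈ F` or `2 d 2 ^ i ∈ F` -/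
def cand (i : ℕ) : List ℕ :=
  ((F.filter fun e => 2 ^ (i + 1) ∣ e).map fun e => e / 2 ^ i) ++ ((F.filter fun e => 2 ^ (i + 2) ∣ e).map fun e =>
    e / 2 ^ (i + 1))

theorem mem_cand {i d : ℕ} (h2 : 2 ∣ d) (h : d * 2 ^ i ∈ F ∨ 2 * (d * 2 ^ i) ∈ F) : d ∈ cand i := by
  obtain ⟨k, rfl⟩ := h2
  rw [cand, List.mem_append, List.mem_map, List.mem_map]
  rcases h with h | h
  · refine Or.inl ⟨_, List.mem_filter.2 ⟨h, ?_⟩, ?_⟩
    · rw [decide_eq_true_eq]
      exact ⟨k, by ring⟩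
    · exact Nat.mul_div_cancel _ (by positivity)
  · refine Or.inr ⟨_, List.mem_filter.2 ⟨h, ?_⟩, ?_⟩
    · rw [decide_eq_true_eq]
      exact ⟨k, by ring⟩
    · rw [show 2 * (2 * k * 2 ^ i) = 2 * k * 2 ^ (i + 1) by ring]
      exact Nat.mul_div_cancel _ (by positivity)

/-- the nonzero `t` -/
def ts : List ℤ := [4, -4, 3, -3, 2, -2, 1, -1]

/-- the pairs `(t, d)` with `11 ∣ d + 5 t` -/
def items (i : ℕ) : List (ℤ × ℤ) :=
  ts.flatMap fun t => (((cand i).dedup.filter fun d : ℕ => (11 : ℤ) ∣ (d : ℤ) + 5 * t).map fun d : ℕ => (t, (d : ℤ)))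

theorem mem_items {i d : ℕ} {t : ℤ} (hd : d ∈ cand i) (ht : t ≠ 0) (h1 : t ≤ 4) (h2 : -4 ≤ t)
    (h : (11 : ℤ) ∣ (d : ℤ) + 5 * t) : (t, (d : ℤ)) ∈ items i := by
  rw [items, List.mem_flatMap]
  refine ⟨t, ?_, ?_⟩
  · unfold ts
    interval_cases t <;> simp at ht ⊢
  · rw [List.mem_map]
    refine ⟨d, List.mem_filter.2 ⟨List.mem_dedup.2 hd, ?_⟩, rfl⟩
    rw [decide_eq_true_eq]
    exact h

theorem ne_items {i : ℕ} : ∀ p ∈ items i, p.1 ≠ 0 := by
  intro p hp
  rw [items, List.mem_flatMap] at hp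
  obtain ⟨t, ht, hp⟩ := hp
  rw [List.mem_map] at hp
  obtain ⟨d, -, rfl⟩ := hp
  unfold ts at ht
  simp at ht
  rcases ht with h | h | h | h | h | h | h | h <;> simp [h]

theorem no_small : ∀ i : Fin 8, reach (items i) 22 0 = false := by decide +kernel

theorem not_dvd_F : ∀ e ∈ F, ¬ 2 ^ 9 ∣ e := by decide +kernel

theorem cand_large {i : ℕ} (hi : 8 ≤ i) : cand i = [] := by
  have h1 : ∀ j, 9 ≤ j → F.filter (fun e => 2 ^ j ∣ e) = [] := by
    intro j hj
    rw [List.filter_eq_nil_iff]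
    intro e he
    rw [decide_eq_true_eq]
    exact fun h => not_dvd_F e he ((pow_dvd_pow 2 hj).trans h)
  rw [cand, h1 _ (by omega), h1 _ (by omega)]
  rfl

theorem no_reach (i : ℕ) : reach (items i) 22 0 = false := by
  by_cases hi : i < 8
  · exact no_small ⟨i, hi⟩
  · have h1 : items i = [] := by
      rw [items, cand_large (by omega)]
      rfl
    rw [h1]
    rfl


/-! ### elements of order 11 -/

section grp

variable {N : Type u} [Group N] [Finite N]

/-- the lift of an element of prime order -/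
theorem lift {X : Type v} [Group X] {π : N →* X} (hπ : Function.Surjective π) {r p : ℕ} (hr : r.Prime) (hp : p.Prime)
    (hrp : r ≠ p) (hV : Nat.card π.ker = r) (hc : π.ker ≤ center N) {y : X} (hy : orderOf y = p) :
    ∃ x : N, π x = y ∧ orderOf x = p ∧ (∀ i : ℕ, IsConj y (y ^ i) → IsConj x (x ^ i)) ∧
      Nat.card (centralizer ({x} : Set N)) = r * Nat.card (centralizer ({y} : Set X)) := by
  have hV1 : ∀ v ∈ π.ker, v ^ r = 1 := fun v hv => by
    have := pow_card_eq_one' (x := (⟨v, hv⟩ : π.ker))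
    rw [hV] at this
    exact congrArg Subtype.val this
  have hcop : r.Coprime p := (Nat.coprime_primes hr hp).2 hrp
  -- elements of order dividing `p` and `r`
  have key : ∀ (a b : N), a ^ p = 1 → b ^ p = 1 → π a = π b → a = b := by
    intro a b ha hb hab
    have h1 : a⁻¹ * b ∈ π.ker := by
      rw [MonoidHom.mem_ker, map_mul, map_inv, hab, inv_mul_cancel]
    have h2 : b = a * (a⁻¹ * b) := by group
    have h3 : Commute a (a⁻¹ * b) := (mem_center_iff.1 (hc h1) a)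
    have h4 : (a⁻¹ * b) ^ p = 1 := by
      have h5 : (a * (a⁻¹ * b)) ^ p = 1 := by rw [← h2]; exact hb
      rwa [h3.mul_pow, ha, one_mul] at h5
    have h6 : a⁻¹ * b = 1 := by
      have := pow_gcd_eq_one.2 ⟨hV1 _ h1, h4⟩
      rwa [Nat.Coprime.gcd_eq_one hcop, pow_one] at this
    rw [h2, h6, mul_one]
  obtain ⟨x0, hx0⟩ := hπ y
  obtain ⟨k, hk⟩ : ∃ k : ℕ, k * r ≡ 1 [MOD p] := by
    obtain ⟨k, -, hk⟩ := Nat.exists_mul_mod_eq_one_of_coprime hcop hp.one_lt
    exact ⟨k, by rw [mul_comm]; exact (show r * k % p = 1 % p by rw [hk, Nat.mod_eq_of_lt hp.one_lt])⟩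
  have hyp : y ^ p = 1 := by rw [← hy]; exact pow_orderOf_eq_one y
  have hx : π (x0 ^ (k * r)) = y := by
    rw [map_pow, hx0]
    have h0 : y ^ (k * r) = y ^ 1 := pow_eq_pow_iff_modEq.2 (by rw [hy]; exact hk)
    rw [h0, pow_one]
  have hxp : (x0 ^ (k * r)) ^ p = 1 := by
    have h1 : x0 ^ p ∈ π.ker := by rw [MonoidHom.mem_ker, map_pow, hx0, hyp]
    have h2 := hV1 _ h1
    rw [← pow_mul, show k * r * p = (p * r) * k by ring, pow_mul, pow_mul x0 p r, h2, one_pow]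
  set x := x0 ^ (k * r) with hxdef
  have hx1 : x ≠ 1 := by
    rintro h
    rw [h, map_one] at hx
    rw [← hx, orderOf_one] at hy
    exact hp.one_lt.ne hy
  have hord : orderOf x = p := by
    have : Fact p.Prime := ⟨hp⟩
    exact orderOf_eq_prime hxp hx1
  refine ⟨x, hx, hord, fun i hi => ?_, ?_⟩
  · obtain ⟨g, hg⟩ := isConj_iff.1 hi
    obtain ⟨g0, rfl⟩ := hπ g
    refine isConj_iff.2 ⟨g0, key _ _ ?_ ?_ ?_⟩
    · rw [conj_pow, hxp, mul_one, mul_inv_cancel]
    · rw [← pow_mul, mul_comm, pow_mul, hxp, one_pow]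
    · rw [map_mul, map_mul, map_inv, hx, hg, map_pow, hx]
  · have h1 : centralizer ({x} : Set N) = (centralizer ({y} : Set X)).comap π := by
      ext g
      rw [mem_comap, mem_centralizer_singleton_iff, mem_centralizer_singleton_iff]
      constructor
      · intro h
        rw [← hx, ← map_mul, ← map_mul, h]
      · intro h
        have h2 : g * x * g⁻¹ = x := by
          refine key _ _ ?_ hxp ?_
          · rw [conj_pow, hxp, mul_one, mul_inv_cancel]
          · rw [map_mul, map_mul, map_inv, hx, h, mul_assoc, mul_inv_cancel, mul_one]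
        exact mul_inv_eq_iff_eq_mul.1 h2
    rw [h1, Cfsg.Agent.LThreeMB.QuoMap.card_comap π hπ, hV]

/-- columns at elements which are not conjugate modulo `V` -/
theorem sum_zero {V : Subgroup N} (hc : V ≤ center N) (c : V →* ℂˣ) [Fintype (IrrCharacter N)] {g h : N}
    (hno : ∀ n : V, ¬ IsConj (g * n) h) : ∑ χ ∈ ov V c, (χ : N → ℂ) g * conj ((χ : N → ℂ) h) = 0 := by
  classical
  have := Fintype.ofFinite V
  rw [sum_over hc c g h, Finset.sum_eq_zero (fun n _ => by rw [if_neg (hno n), mul_zero]), mul_zero]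

/-- the column at an element of order prime to `|V|` -/
theorem sum_self {V : Subgroup N} (hc : V ≤ center N) (c : V →* ℂˣ) [Fintype (IrrCharacter N)] {g : N} {k m : ℕ}
    (hg : g ^ k = 1) (hk : k.Coprime (Nat.card V))
    (hm : Nat.card (centralizer ({g} : Set N)) = Nat.card V * m) :
    ∑ χ ∈ ov V c, (χ : N → ℂ) g * conj ((χ : N → ℂ) g) = m := by
  have h1 := sum_normSq_over hc c g (fun n hn => eq_one_of_isConj hc hg hk hn)
  have h0 : (Nat.card V : ℝ) ≠ 0 := by exact_mod_cast Nat.card_pos.ne'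
  rw [hm] at h1
  push_cast at h1
  have h2 := mul_left_cancel₀ h0 h1
  have h3 : ((∑ χ ∈ ov V c, ‖(χ : N → ℂ) g‖ ^ 2 : ℝ) : ℂ) = m := by rw [h2]; norm_cast
  rw [← h3]
  push_cast
  exact Finset.sum_congr rfl fun χ _ => Complex.mul_conj' _

/-- **The columns at `x`, `x²`, `x` of order 11 with `x ~ x⁴`.** -/
theorem col (hperf : commutator N = ⊤) {V : Subgroup N} (hV : Nat.card V = 2) (hc : V ≤ center N) {c : V →* ℂˣ}
    (hci : Function.Injective c) {x : N} (hx : orderOf x = 11) (h4 : IsConj x (x ^ 4))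
    (h2 : ∀ n : V, ¬ IsConj (x * n) (x ^ 2)) (hm : Nat.card (centralizer ({x} : Set N)) = 2 * 11)
    [Fintype (IrrCharacter N)] :
    ∃ t : IrrCharacter N → ℤ, (∀ χ ∈ ov V c, 2 ∣ charDegree (χ : N → ℂ) ∧
        (11 : ℤ) ∣ (charDegree (χ : N → ℂ) : ℤ) + 5 * t χ) ∧
      ∑ χ ∈ ov V c, t χ * t χ = (22 : ℕ) ∧ ∑ χ ∈ ov V c, t χ * (charDegree (χ : N → ℂ) : ℤ) = 0 := by
  classical
  have hval : ∀ χ : IrrCharacter N, ∃ t : ℤ, (χ : N → ℂ) x + (χ : N → ℂ) (x ^ 2) = t ∧
      (11 : ℤ) ∣ (charDegree (χ : N → ℂ) : ℤ) + 5 * t := by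
    intro χ
    have hχ := Core.isIrr_isCharacter χ.2
    obtain ⟨m, hm⟩ := H678.S8.sum_eleven hχ hx h4
    rw [Blocks.Knorr.charDegree_eq χ.2] at hm
    obtain ⟨a, ha⟩ := GaloisBasic.exists_int_of_isIntegral (z := (χ : N → ℂ) x + (χ : N → ℂ) (x ^ 2))
      ((GaloisBasic.isIntegral_apply hχ x).add (GaloisBasic.isIntegral_apply hχ (x ^ 2)))
      ⟨(11 * m - charDegree (χ : N → ℂ)) / 5, by
        push_cast
        rw [eq_div_iff (by norm_num)]
        linear_combination hm⟩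
    refine ⟨a, ha, m, ?_⟩
    rw [ha] at hm
    exact_mod_cast hm
  choose t ht1 ht2 using hval
  have hxp : x ^ 11 = 1 := by rw [← hx]; exact pow_orderOf_eq_one x
  have hxp2 : (x ^ 2) ^ 11 = 1 := by rw [← pow_mul, mul_comm, pow_mul, hxp, one_pow]
  have hcop : Nat.Coprime 11 (Nat.card V) := by rw [hV]; norm_num
  have hcent : centralizer ({x ^ 2} : Set N) = centralizer ({x} : Set N) := by
    have hx6 : x = (x ^ 2) ^ 6 := by
      rw [← pow_mul, show 2 * 6 = 11 + 1 by norm_num, pow_add, hxp, one_mul, pow_one]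
    ext g
    rw [mem_centralizer_singleton_iff, mem_centralizer_singleton_iff]
    constructor
    · intro h
      have h1 : Commute g ((x ^ 2) ^ 6) := Commute.pow_right h 6
      rw [← hx6] at h1
      exact h1
    · intro h
      exact Commute.pow_right h 2
  have s1 : ∑ χ ∈ ov V c, (χ : N → ℂ) x * conj ((χ : N → ℂ) x) = (11 : ℕ) :=
    sum_self hc c hxp hcop (by rw [hm, hV])
  have s2 : ∑ χ ∈ ov V c, (χ : N → ℂ) (x ^ 2) * conj ((χ : N → ℂ) (x ^ 2)) = (11 : ℕ) :=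
    sum_self hc c hxp2 hcop (by rw [hcent, hm, hV])
  have s3 : ∑ χ ∈ ov V c, (χ : N → ℂ) x * conj ((χ : N → ℂ) (x ^ 2)) = 0 := sum_zero hc c h2
  have s4 : ∑ χ ∈ ov V c, (χ : N → ℂ) (x ^ 2) * conj ((χ : N → ℂ) x) = 0 := by
    have h := congrArg conj s3
    rw [map_sum, map_zero] at h
    rw [← h]
    refine Finset.sum_congr rfl fun χ _ => ?_
    rw [map_mul, Complex.conj_conj, mul_comm]
  have hne : ∀ (g : N), g ^ 11 = 1 → g ≠ 1 → ∀ n : V, ¬ IsConj (g * n) 1 := by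
    intro g hg hg1 n hn
    rw [isConj_one_left] at hn
    have h3 : g = ((n⁻¹ : V) : N) := by
      rw [Subgroup.coe_inv]
      exact eq_inv_of_mul_eq_one_left hn
    have h5 : n⁻¹ ^ 11 = 1 := Subtype.ext (by rw [Subgroup.coe_pow, ← h3, hg, Subgroup.coe_one])
    have h6 : n⁻¹ ^ Nat.card V = 1 := pow_card_eq_one'
    have h7 : n⁻¹ = 1 := by
      have := pow_gcd_eq_one.2 ⟨h5, h6⟩
      rwa [Nat.Coprime.gcd_eq_one hcop, pow_one] at this
    apply hg1
    rw [h3, h7, Subgroup.coe_one]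
  have hx1 : x ≠ 1 := by
    rintro rfl
    rw [orderOf_one] at hx
    norm_num at hx
  have hx21 : x ^ 2 ≠ 1 := by
    intro h
    have h5 : orderOf x ∣ 2 := orderOf_dvd_of_pow_eq_one h
    rw [hx] at h5
    norm_num at h5
  have z1 : ∑ χ ∈ ov V c, (χ : N → ℂ) x * conj ((χ : N → ℂ) 1) = 0 := sum_zero hc c (hne x hxp hx1)
  have z2 : ∑ χ ∈ ov V c, (χ : N → ℂ) (x ^ 2) * conj ((χ : N → ℂ) 1) = 0 := sum_zero hc c (hne _ hxp2 hx21)
  refine ⟨t, fun χ hχ => ⟨?_, ht2 χ⟩, ?_, ?_⟩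
  · have := Cfsg.Agent.H535.RIM.card_dvd_deg hc hperf hci χ.2 (mem_ov.1 hχ)
    rwa [hV] at this
  · have h1 : ((∑ χ ∈ ov V c, t χ * t χ : ℤ) : ℂ) = 22 := by
      have h3 : ((∑ χ ∈ ov V c, t χ * t χ : ℤ) : ℂ) = ∑ χ ∈ ov V c, ((χ : N → ℂ) x * conj ((χ : N → ℂ) x) +
          (χ : N → ℂ) (x ^ 2) * conj ((χ : N → ℂ) (x ^ 2)) + (χ : N → ℂ) x * conj ((χ : N → ℂ) (x ^ 2)) +
          (χ : N → ℂ) (x ^ 2) * conj ((χ : N → ℂ) x)) := by
        push_cast
        refine Finset.sum_congr rfl fun χ _ => ?_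
        have h5 : (t χ : ℂ) = conj ((χ : N → ℂ) x) + conj ((χ : N → ℂ) (x ^ 2)) := by
          rw [← map_add, ht1 χ, map_intCast]
        calc (t χ : ℂ) * t χ = ((χ : N → ℂ) x + (χ : N → ℂ) (x ^ 2)) *
              (conj ((χ : N → ℂ) x) + conj ((χ : N → ℂ) (x ^ 2))) := by rw [← h5, ht1 χ]
          _ = _ := by ring
      rw [h3, Finset.sum_add_distrib, Finset.sum_add_distrib, Finset.sum_add_distrib, s1, s2, s3, s4]
      norm_num
    exact_mod_cast h1
  · have h1 : ((∑ χ ∈ ov V c, t χ * (charDegree (χ : N → ℂ) : ℤ) : ℤ) : ℂ) = 0 := by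
      have h3 : ((∑ χ ∈ ov V c, t χ * (charDegree (χ : N → ℂ) : ℤ) : ℤ) : ℂ) =
          ∑ χ ∈ ov V c, ((χ : N → ℂ) x * conj ((χ : N → ℂ) 1) + (χ : N → ℂ) (x ^ 2) * conj ((χ : N → ℂ) 1)) := by
        push_cast
        refine Finset.sum_congr rfl fun χ _ => ?_
        rw [← ht1 χ, Blocks.Knorr.charDegree_eq χ.2]
        simp only [Complex.conj_natCast]
        ring
      rw [h3, Finset.sum_add_distrib, z1, z2, add_zero]
    exact_mod_cast h1

end grp


/-- `x ~ x⁴` for `x` of order 11 with `|N(⟨x⟩) : C(x)| = 5` -/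
theorem conj_four {S : Type v} [Group S] [Finite S] {x : S} (hx : orderOf x = 11)
    (hN : Nat.card (normalizer ((zpowers x : Subgroup S) : Set S)) = Nat.card (centralizer ({x} : Set S)) * 5) :
    IsConj x (x ^ 4) := by
  classical
  have hx11 : x ^ 11 = 1 := hx ▸ pow_orderOf_eq_one x
  obtain ⟨g, hg, hgc⟩ : ∃ g ∈ normalizer ((zpowers x : Subgroup S) : Set S), g ∉ centralizer ({x} : Set S) := by
    by_contra hcon
    push Not at hcon
    have h1 : Nat.card (normalizer ((zpowers x : Subgroup S) : Set S)) ≤ Nat.card (centralizer ({x} : Set S)) :=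
      Nat.card_le_card_of_injective (Subgroup.inclusion hcon) (Subgroup.inclusion_injective hcon)
    have h2 : 0 < Nat.card (centralizer ({x} : Set S)) := Nat.card_pos
    omega
  have h1 : g * x * g⁻¹ ∈ zpowers x := (mem_normalizer_iff.1 hg x).1 (mem_zpowers x)
  rw [mem_zpowers_iff_mem_range_orderOf, Finset.mem_image] at h1
  obtain ⟨k, hk, hkx⟩ := h1
  rw [Finset.mem_range, hx] at hk
  have hit : ∀ n : ℕ, g ^ n * x * (g ^ n)⁻¹ = x ^ (k ^ n) := by
    intro n
    induction n with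
    | zero => simp
    | succ n ih =>
      calc g ^ (n + 1) * x * (g ^ (n + 1))⁻¹ = g * (g ^ n * x * (g ^ n)⁻¹) * g⁻¹ := by rw [pow_succ']; group
        _ = (g * x * g⁻¹) ^ (k ^ n) := by rw [ih, ← conj_pow]
        _ = x ^ (k ^ (n + 1)) := by rw [← hkx, ← pow_mul, pow_succ']
  have hc : IsConj x (x ^ k) := isConj_iff.2 ⟨g, hkx.symm⟩
  have h5 := H306.RIM.pow_of_conj hN hc
  have h6 : x ^ (k ^ 5) = x ^ 1 := by rw [h5, pow_one]
  rw [pow_eq_pow_iff_modEq, hx] at h6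
  have hk1 : k ≠ 1 := by
    rintro rfl
    apply hgc
    rw [mem_centralizer_singleton_iff]
    rw [pow_one] at hkx
    exact (mul_inv_eq_iff_eq_mul.1 hkx.symm)
  have key : ∀ n : ℕ, k ^ n % 11 = 4 → IsConj x (x ^ 4) := by
    intro n hn
    refine isConj_iff.2 ⟨g ^ n, ?_⟩
    rw [hit n, pow_eq_pow_iff_modEq, hx]
    exact hn
  have h7 : k ^ 5 % 11 = 1 := h6
  interval_cases k
  · norm_num at h7
  · exact absurd rfl hk1
  · norm_num at h7
  · exact key 4 (by norm_num)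
  · exact key 1 (by norm_num)
  · exact key 3 (by norm_num)
  · norm_num at h7
  · norm_num at h7
  · norm_num at h7
  · exact key 2 (by norm_num)
  · norm_num at h7

/-- **COVER for `HS`, `r = 2`, all `i`** -/
theorem cover_all {X : Type v} [Group X] [Finite X] (h : Spor.IsoHS X) (D : Set ℕ) (hD : H704.S8.Deg 2 X D)
    {N : Type u} [Group N] [Finite N] (V : Subgroup N) [V.Normal] (hV : Nat.card V = 2) (hc : V ≤ Subgroup.center N)
    (hperf : commutator N = ⊤) (he : Nonempty ((N ⧸ V) ≃* X)) (i : ℕ) :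
    ∃ (χ : N → ℂ) (d : ℕ), IsIrrCharacter N χ ∧ (∃ v ∈ V, χ v ≠ χ 1) ∧ χ 1 = d ∧
      d * 2 ^ i ∉ D ∧ 2 * (d * 2 ^ i) ∉ D := by
  classical
  obtain ⟨e⟩ := he
  have hsub := deg_sub h hD
  -- an element of order 11
  obtain ⟨y, hy, H⟩ := Cfsg.Agent.H904.TwoHS.eleven h
  have hH := H (zpowers y) (by rw [Nat.card_zpowers, hy])
  have hC := Cfsg.Agent.H904.HSIso.card_eleven h hy
  have hN : Nat.card (normalizer ((zpowers y : Subgroup X) : Set X)) = Nat.card (centralizer ({y} : Set X)) * 5 := by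
    rw [hC, hH.2]
  have hn2 : ¬ IsConj y (y ^ 2) := H306.RIM.not_conj hy hN (by norm_num)
  have hy4 : IsConj y (y ^ 4) := conj_four hy hN
  -- the lift
  let π : N →* X := e.toMonoidHom.comp (QuotientGroup.mk' V)
  have hπ : Function.Surjective π := e.surjective.comp (QuotientGroup.mk'_surjective V)
  have hker : π.ker = V := by
    ext x
    rw [MonoidHom.mem_ker]
    change e (QuotientGroup.mk' V x) = 1 ↔ _
    rw [map_eq_one_iff e e.injective, QuotientGroup.mk'_apply, QuotientGroup.eq_one_iff]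
  obtain ⟨x, hx, hxo, hxc, hxC⟩ := lift hπ Nat.prime_two (by norm_num : Nat.Prime 11) (by norm_num)
    (by rw [hker]; exact hV) (by rw [hker]; exact hc) hy
  have hx4 := hxc 4 hy4
  have hx2 : ∀ n : V, ¬ IsConj (x * n) (x ^ 2) := by
    intro n hn
    apply hn2
    have h1 := π.map_isConj hn
    have h2 : π n = 1 := by
      rw [← MonoidHom.mem_ker, hker]
      exact n.2
    rwa [map_mul, map_pow, h2, mul_one, hx] at h1
  obtain ⟨c, hci⟩ := H206.S8.exists_inj Nat.prime_two hV hc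
  have := finite_irr (G := N)
  have := Fintype.ofFinite (IrrCharacter N)
  obtain ⟨t, ht, hs1, hs2⟩ := col hperf hV hc hci hxo hx4 hx2 (by rw [hxC, hC])
  by_contra hcon
  push Not at hcon
  have hall : ∀ χ ∈ ov V c, charDegree (χ : N → ℂ) ∈ cand i := by
    intro χ hχ
    have h1 : ∃ v ∈ V, (χ : N → ℂ) v ≠ (χ : N → ℂ) 1 := by
      obtain ⟨v, hv⟩ : ∃ v : V, c v ≠ 1 := by
        have h3 : 1 < Nat.card V := by rw [hV]; norm_num
        have hnt : Nontrivial V := Finite.one_lt_card_iff_nontrivial.1 h3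
        obtain ⟨v, hv⟩ := exists_ne (1 : V)
        exact ⟨v, fun h4 => hv (hci (by rw [h4, map_one]))⟩
      refine ⟨v, v.2, fun h4 => hv ?_⟩
      have h5 := (mem_ov.1 hχ) 1 v
      rw [one_mul, h4] at h5
      have h6 : (χ : N → ℂ) 1 * 1 = (χ : N → ℂ) 1 * c v := by rw [mul_one]; exact h5
      exact Units.ext (mul_left_cancel₀ (isIrr_apply_one_ne_zero χ.2) h6).symm
    refine mem_cand (ht χ hχ).1 ?_
    by_cases h2 : charDegree (χ : N → ℂ) * 2 ^ i ∈ D
    · exact Or.inl (hsub _ h2)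
    · exact Or.inr (hsub _ (hcon χ _ χ.2 h1 (Blocks.Knorr.charDegree_eq χ.2) h2))
  have hr := reach_of t (fun χ => (charDegree (χ : N → ℂ) : ℤ)) (items i) ne_items (ov V c) (fun χ hχ => by
    by_cases h0 : t χ = 0
    · exact Or.inl h0
    · right
      have hle : t χ * t χ ≤ 22 := by
        have h1 : t χ * t χ ≤ ∑ χ ∈ ov V c, t χ * t χ :=
          Finset.single_le_sum (f := fun χ => t χ * t χ) (fun _ _ => mul_self_nonneg _) hχ
        rw [hs1] at h1
        exact_mod_cast h1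
      exact mem_items (hall χ hχ) h0 (by nlinarith) (by nlinarith) (ht χ hχ).2) 22 0 hs1 hs2
  rw [no_reach] at hr
  exact absurd hr (by norm_num)

/-- **COVER for `HS`** -/
theorem coverAt_two {X : Type v} [Group X] [Finite X] (h : Spor.IsoHS X) (D : Set ℕ) (hD : H704.S8.Deg 2 X D) :
    H529.S8.CoverAt.{u} 2 2 D X := by
  intro N _ _ V _ hV hc hperf he i _
  obtain ⟨χ, d, h1, h2, h3, h4, h5⟩ := cover_all h D hD V hV hc hperf he i
  exact ⟨χ, d, h1, h2, h3, h4, Or.inl h5⟩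

end cover

end Cfsg.Agent.H454.S8
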